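import Groth.Agent.DepthLib.CMPoly
import Groth.Agent.DepthLib.Quotient
import Groth.Agent.DepthLib.SerreNormal
import Groth.Agent.GradedVertex.Cone
import Mathlib.RingTheory.LocalProperties.IntegrallyClosed

/-!
# Projective normality of complete intersections
-/

set_option autoImplicit false

universe u

namespace Groth.Agent.NonsingCI

open MvPolynomial LocCoh

variable {k : Type u} [Field k] {N : ℕ}

/-- Homogeneous ideals are saturated with respect to elements with nonzero constant term. -/
theorem mem_of_mul_mem {r : ℕ} {f : Fin r → MvPolynomial (Fin N) k} {d : Fin r → ℕ}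
    (hf : ∀ i, (f i).IsHomogeneous (d i)) {t g : MvPolynomial (Fin N) k} (ht : constantCoeff t ≠ 0)
    (h : t * g ∈ Ideal.span (Set.range f)) : g ∈ Ideal.span (Set.range f) := by
  classical
  set J := Ideal.span (Set.range f)
  have hcomp : ∀ p ∈ J, ∀ e, homogeneousComponent e p ∈ J := by
    intro p hp e
    induction hp using Submodule.span_induction with
    | mem x hx =>
      obtain ⟨i, rfl⟩ := hx
      rw [homogeneousComponent_of_mem (hf i)]
      split_ifs
      · exact Ideal.subset_span ⟨i, rfl⟩
      · exact J.zero_mem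
    | zero => rw [map_zero]; exact J.zero_mem
    | add x y _ _ hx hy => rw [map_add]; exact J.add_mem hx hy
    | smul a x hxm hx =>
      clear hx
      induction hxm using Submodule.span_induction generalizing a with
      | mem x hx =>
        obtain ⟨i, rfl⟩ := hx
        rw [smul_eq_mul]
        conv => arg 2; rw [← sum_homogeneousComponent a, Finset.sum_mul, map_sum]
        refine J.sum_mem fun l _ => ?_
        rw [homogeneousComponent_of_mem ((homogeneousComponent_isHomogeneous l a).mul (hf i))]
        split_ifs
        · exact Ideal.mul_mem_left _ _ (Ideal.subset_span ⟨i, rfl⟩)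
        · exact J.zero_mem
      | zero => rw [smul_zero, map_zero]; exact J.zero_mem
      | add x y _ _ hx hy => rw [smul_add, map_add]; exact J.add_mem (hx a) (hy a)
      | smul b x _ hx => rw [smul_smul]; exact hx _
  have key : ∀ e, homogeneousComponent e g ∈ J := by
    intro e
    induction e using Nat.strong_induction_on with
    | _ e ih =>
      let g' : MvPolynomial (Fin N) k := ∑ l ∈ Finset.range e, homogeneousComponent l g
      have hg' : g' ∈ J := J.sum_mem fun l hl => ih l (Finset.mem_range.1 hl)
      have h1 : t * (g - g') ∈ J := by rw [mul_sub]; exact J.sub_mem h (Ideal.mul_mem_left _ _ hg')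
      have h2 := hcomp _ h1 e
      have hlow : ∀ l < e, homogeneousComponent l (g - g') = 0 := fun l hl => by
        rw [map_sub, map_sum, Finset.sum_eq_single l]
        · rw [homogeneousComponent_of_mem (homogeneousComponent_isHomogeneous l g), if_pos rfl, sub_self]
        · intro b _ hb
          rw [homogeneousComponent_of_mem (homogeneousComponent_isHomogeneous b g), if_neg (Ne.symm hb)]
        · exact fun hl' => absurd (Finset.mem_range.2 hl) hl'
      have he : homogeneousComponent e (g - g') = homogeneousComponent e g := by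
        rw [map_sub, map_sum, Finset.sum_eq_zero, sub_zero]
        intro b hb
        rw [homogeneousComponent_of_mem (homogeneousComponent_isHomogeneous b g),
          if_neg (Finset.mem_range.1 hb).ne']
      have h3 : homogeneousComponent e (t * (g - g')) = constantCoeff t • homogeneousComponent e g := by
        ext s
        rw [coeff_homogeneousComponent, coeff_smul, smul_eq_mul]
        split_ifs with hs
        · rw [coeff_mul, Finset.sum_eq_single (0, s)]
          · rw [← he, coeff_homogeneousComponent, if_pos hs]; rfl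
          · rintro ⟨a, b⟩ hab hne
            have hab' : a + b = s := Finset.HasAntidiagonal.mem_antidiagonal.1 hab
            have ha : a ≠ 0 := fun ha => hne (by subst ha; rw [zero_add] at hab'; rw [hab'])
            have hb : b.degree < e := by
              have h4 : a.degree + b.degree = e := by rw [← hs, ← hab', map_add]
              have h5 : a.degree ≠ 0 := fun h5 => ha (Finsupp.degree_eq_zero_iff a |>.1 h5)
              omega
            have h6 := congrArg (coeff b) (hlow _ hb)
            rw [coeff_homogeneousComponent, if_pos rfl, coeff_zero] at h6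
            rw [h6, mul_zero]
          · intro hns
            exact absurd (Finset.HasAntidiagonal.mem_antidiagonal.2 (zero_add s)) hns
        · rw [coeff_homogeneousComponent, if_neg hs, mul_zero]
      rw [h3, smul_eq_C_mul] at h2
      have h7 := Ideal.mul_mem_left J (C (constantCoeff t)⁻¹) h2
      rwa [← mul_assoc, ← map_mul, inv_mul_cancel₀ ht, map_one, one_mul] at h7
  rw [← sum_homogeneousComponent g]
  exact J.sum_mem fun e _ => key e

/-- The vertex of the cone over a complete intersection has depth at least two. -/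
theorem two_le_depth_vertex {n r : ℕ} (hr : r < n) (f : Fin r → MvPolynomial (Fin (n + 1)) k)
    (hfm : ∀ i, f i ∈ RingHom.ker (constantCoeff (R := k) (σ := Fin (n + 1))))
    (hJ : (Ideal.span (Set.range f)).height = r) (p' : Ideal (MvPolynomial (Fin (n + 1)) k ⧸ Ideal.span (Set.range f)))
    [p'.IsPrime]
    (hp' : p' = (RingHom.ker (constantCoeff (R := k) (σ := Fin (n + 1)))).map (Ideal.Quotient.mk _)) :
    2 ≤ depth (Localization.AtPrime p') (Localization.AtPrime p') := by
  haveI := DepthLib.CMPoly.isRegularRing_field k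
  let m : Ideal (MvPolynomial (Fin (n + 1)) k) := RingHom.ker (constantCoeff (R := k) (σ := Fin (n + 1)))
  haveI : m.IsMaximal := GradedVertex.isMaximal_vertex
  let J := Ideal.span (Set.range f)
  let A := Localization.AtPrime m
  have hJm : J ≤ m := Ideal.span_le.mpr (by rintro _ ⟨i, rfl⟩; exact hfm i)
  haveI := DepthLib.isCohenMacaulayLocalRing_of_isRegularLocalRing A
  let rs : List A := List.ofFn fun i => algebraMap _ A (f i)
  have hof : Ideal.ofList rs = J.map (algebraMap _ A) := by
    rw [Ideal.map_span, ← Set.range_comp, Ideal.ofList]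
    congr 1
    ext a; simp [rs, List.mem_ofFn]
  have hrsm : ∀ a ∈ rs, a ∈ IsLocalRing.maximalIdeal A := by
    intro a ha
    obtain ⟨i, rfl⟩ := List.mem_ofFn.mp ha
    exact (IsLocalization.AtPrime.to_map_mem_maximal_iff A m _).mpr (hfm i)
  have htop : (Ideal.ofList rs • ⊤ : Submodule A A) = Ideal.ofList rs := by rw [smul_eq_mul, Ideal.mul_top]
  have hNe : Ideal.ofList rs ≠ ⊤ := ne_top_of_le_ne_top (IsLocalRing.maximalIdeal.isMaximal A).ne_top
    (Ideal.span_le.mpr hrsm)
  haveI : Nontrivial (A ⧸ (Ideal.ofList rs • ⊤ : Submodule A A)) :=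
    Submodule.Quotient.nontrivial_iff.mpr (by rw [htop]; exact hNe)
  obtain ⟨q, hq, hqd⟩ := DepthLib.exists_mem_support_ringKrullDim_eq (R := A) (M := A ⧸ (Ideal.ofList rs • ⊤ : Submodule A A))
  rw [Module.support_quotient] at hq
  have hheight : (r : ℕ∞) ≤ q.asIdeal.height := by
    refine hJ.ge.trans ((Ideal.height_mono (show J ≤ q.asIdeal.comap (algebraMap _ A) from
      Ideal.map_le_iff_le_comap.mp (hof ▸ hq.2))).trans_eq ?_)
    exact IsLocalization.height_under m.primeCompl q.asIdeal
  have hsum := DepthLib.supportDim_localization_add_le (R := A) (M := A) q hq.1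
  rw [DepthLib.supportDim_localization_self] at hsum
  have hdrop : Module.supportDim A (A ⧸ (Ideal.ofList rs • ⊤ : Submodule A A)) + rs.length ≤
      Module.supportDim A A := by
    rw [← hqd, List.length_ofFn, add_comm]
    exact (add_le_add (WithBot.coe_le_coe.mpr hheight) le_rfl).trans hsum
  have hreg := DepthLib.isWeaklyRegular_of_supportDim_drop rs A DepthLib.isCohenMacaulayModule_self hrsm hdrop
  have hCM := DepthLib.isCohenMacaulayModule_quot_ofList rs A DepthLib.isCohenMacaulayModule_self hrsm hreg
  have hdim := DepthLib.supportDim_quot_ofList_add_length (M := A) hrsm hreg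
  rw [hCM, List.length_ofFn, Module.supportDim_self_eq_ringKrullDim,
    IsLocalization.AtPrime.ringKrullDim_eq_height m] at hdim
  rw [DepthLib.depth_quotient_localization J m hJm p' hp', ← hof]
  rw [show depth A (A ⧸ Ideal.ofList rs) = depth A (A ⧸ (Ideal.ofList rs • ⊤ : Submodule A A)) from
    DepthLib.depth_congr (Submodule.quotEquivOfEq _ _ htop.symm)]
  have hm : ((n + 1 : ℕ) : ℕ∞) ≤ m.height := DepthLib.CMPoly.le_height_ker_constantCoeff k (n + 1)
  by_contra hlt
  obtain ⟨e, he⟩ : ∃ e : ℕ, depth A (A ⧸ (Ideal.ofList rs • ⊤ : Submodule A A)) = e :=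
    ⟨_, (ENat.coe_toNat (ne_top_of_lt (not_le.1 hlt))).symm⟩
  rw [he] at hdim hlt
  have h1 : ((n + 1 : ℕ) : ℕ∞) ≤ ((e + r : ℕ) : ℕ∞) := hm.trans (le_of_eq (by
    push_cast
    exact (WithBot.coe_injective (by rw [WithBot.coe_add]; exact hdim)).symm))
  have h2 : n + 1 ≤ e + r := by exact_mod_cast h1
  have h3 : e < 2 := by exact_mod_cast not_le.1 hlt
  omega

theorem localization_localization {A : Type u} [CommRing A] (p : Ideal A) [p.IsPrime] (Q : Ideal (Localization.AtPrime p))
    [Q.IsPrime] (h : ∀ (q : Ideal A) [q.IsPrime], q ≠ p → IsDomain (Localization.AtPrime q) ∧ IsIntegrallyClosed (Localization.AtPrime q))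
    (hQ : Q ≠ IsLocalRing.maximalIdeal (Localization.AtPrime p)) :
    IsDomain (Localization.AtPrime Q) ∧ IsIntegrallyClosed (Localization.AtPrime Q) := by
  let q : Ideal A := Q.comap (algebraMap A (Localization.AtPrime p))
  haveI : q.IsPrime := Ideal.IsPrime.comap _
  obtain ⟨hd1, hd2⟩ := h q (fun e => hQ (by
    rw [← IsLocalization.map_under p.primeCompl (Localization.AtPrime p) Q,
      show Q.under A = p from e, Localization.AtPrime.map_eq_maximalIdeal]))
  let e := (IsLocalization.localizationLocalizationAtPrimeIsoLocalization p.primeCompl Q).toRingEquiv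
  exact ⟨e.symm.toMulEquiv.isDomain _, IsIntegrallyClosed.of_equiv e⟩

/-- A complete intersection cone which is normal off the vertex is a normal domain. -/
theorem isDomain_and_isIntegrallyClosed (n r : ℕ) (hr : r < n) (f : Fin r → MvPolynomial (Fin (n + 1)) k)
    (d : Fin r → ℕ) (hf : ∀ i, (f i).IsHomogeneous (d i)) (hd : ∀ i, 0 < d i)
    (hJ : (Ideal.span (Set.range f)).height = r)
    (hnorm : ∀ (Q : Ideal (MvPolynomial (Fin (n + 1)) k ⧸ Ideal.span (Set.range f))) [Q.IsPrime],
      (∃ i, Ideal.Quotient.mk (Ideal.span (Set.range f)) (X i) ∉ Q) →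
        IsDomain (Localization.AtPrime Q) ∧ IsIntegrallyClosed (Localization.AtPrime Q)) :
    IsDomain (MvPolynomial (Fin (n + 1)) k ⧸ Ideal.span (Set.range f)) ∧
      IsIntegrallyClosed (MvPolynomial (Fin (n + 1)) k ⧸ Ideal.span (Set.range f)) := by
  classical
  let J := Ideal.span (Set.range f)
  let A := MvPolynomial (Fin (n + 1)) k ⧸ J
  let m : Ideal (MvPolynomial (Fin (n + 1)) k) := RingHom.ker (constantCoeff (R := k) (σ := Fin (n + 1)))
  haveI : m.IsMaximal := GradedVertex.isMaximal_vertex
  have hfm : ∀ i, f i ∈ m := fun i => by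
    rw [RingHom.mem_ker, constantCoeff_eq]
    exact (hf i).coeff_eq_zero (by rw [map_zero]; exact (hd i).ne)
  have hJm : J ≤ m := Ideal.span_le.mpr (by rintro _ ⟨i, rfl⟩; exact hfm i)
  let p' : Ideal A := m.map (Ideal.Quotient.mk J)
  haveI hp'max : p'.IsMaximal :=
    Ideal.IsMaximal.map_of_surjective_of_ker_le Ideal.Quotient.mk_surjective (by rwa [Ideal.mk_ker])
  have hoff : ∀ (Q : Ideal A) [Q.IsPrime], (∀ i, Ideal.Quotient.mk J (X i) ∈ Q) → Q = p' := fun Q hQ h => by
    refine (hp'max.eq_of_le hQ.ne_top ?_).symm
    refine Ideal.map_le_iff_le_comap.2 ((GradedVertex.vertex_le_span_X).trans (Ideal.span_le.2 ?_))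
    rintro _ ⟨i, rfl⟩
    exact h i
  have hdepth := two_le_depth_vertex hr f hfm hJ p' rfl
  have hq' : ∀ (q : Ideal A) [q.IsPrime], q ≠ p' →
      IsDomain (Localization.AtPrime q) ∧ IsIntegrallyClosed (Localization.AtPrime q) := fun q _ hq => hnorm q (by
    by_contra hcon
    push Not at hcon
    exact hq (hoff q hcon))
  haveI hD : IsDomain (Localization.AtPrime p') :=
    DepthLib.isDomain_of_two_le_depth hdepth fun Q _ hQ => (localization_localization p' Q hq' hQ).1
  haveI hN : IsIntegrallyClosed (Localization.AtPrime p') :=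
    DepthLib.isIntegrallyClosed_of_two_le_depth hdepth fun Q _ hQ => (localization_localization p' Q hq' hQ).2
  have hinj : Function.Injective (algebraMap A (Localization.AtPrime p')) := by
    refine (injective_iff_map_eq_zero _).2 fun a ha => ?_
    obtain ⟨⟨s, hs⟩, hsa⟩ := (IsLocalization.map_eq_zero_iff p'.primeCompl (Localization.AtPrime p') a).1 ha
    obtain ⟨t, rfl⟩ := Ideal.Quotient.mk_surjective s
    obtain ⟨g, rfl⟩ := Ideal.Quotient.mk_surjective a
    have ht : constantCoeff t ≠ 0 := fun h0 => hs (Ideal.mem_map_of_mem _ h0)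
    refine Ideal.Quotient.eq_zero_iff_mem.2 (mem_of_mul_mem hf ht ?_)
    rw [← Ideal.Quotient.eq_zero_iff_mem, map_mul]
    exact hsa
  haveI hA : IsDomain A := hinj.isDomain (algebraMap A (Localization.AtPrime p'))
  refine ⟨hA, IsIntegrallyClosed.of_localization_maximal fun P _ hP => ?_⟩
  by_cases hcon : ∃ i, Ideal.Quotient.mk J (X i) ∉ P
  · exact (hnorm P hcon).2
  · push Not at hcon
    obtain rfl := hoff P hcon
    exact hN

end Groth.Agent.NonsingCI
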