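import Groth.Agent.NonsingCI.Cone
import Groth.Agent.DepthLib.RegularNormal
import Groth.Agent.BertiniHyp.Affine
import Groth.Agent.ForSys.Planes
import Groth.Agent.ArtinFlat.HB

/-!
# Nonsingular complete intersections of given degrees
-/

set_option autoImplicit false

universe u

namespace Groth.Agent.NonsingCI

open MvPolynomial

variable {k : Type u} [Field k] {N : ℕ}

theorem eval₂_smul_homogeneous {A : Type u} [CommRing A] [Algebra k A] {d : ℕ} {p : MvPolynomial (Fin N) k}
    (hp : p.IsHomogeneous d) (c : A) (v : Fin N → A) : aeval (fun i => c * v i) p = c ^ d * aeval v p := by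
  classical
  conv_lhs => rw [p.as_sum]
  conv_rhs => rw [p.as_sum]
  rw [map_sum, map_sum, Finset.mul_sum]
  refine Finset.sum_congr rfl fun s hs => ?_
  rw [aeval_monomial, aeval_monomial, mul_left_comm]
  congr 1
  simp only [Finsupp.prod, mul_pow, Finset.prod_mul_distrib]
  rw [Finset.prod_pow_eq_pow_sum]
  congr 2
  exact (hp.degree_eq_sum_deg_support hs).symm

/-- The dehomogenised coordinate ring of a projective piece. -/
abbrev Piece (J : Ideal (MvPolynomial (Fin N) k)) (j : Fin N) : Type u :=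
  MvPolynomial (Fin N) k ⧸ (J ⊔ Ideal.span {(X j : MvPolynomial (Fin N) k) - 1})

/-- `B[t, 1/t]`. -/
abbrev XAway (B : Type u) [CommRing B] : Type u := Localization.Away (Polynomial.X : Polynomial B)

/-- A homogeneous cone is smooth off a coordinate hyperplane if the dehomogenised ring is. -/
theorem smooth_away_aux {r : ℕ} (f : Fin r → MvPolynomial (Fin N) k) (d : Fin r → ℕ)
    (hf : ∀ i, (f i).IsHomogeneous (d i)) (j : Fin N) (J : Ideal (MvPolynomial (Fin N) k))
    (hJ : J = Ideal.span (Set.range f)) (B : Type u) [CommRing B] [Algebra k B] [Algebra.Smooth k B]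
    (π : MvPolynomial (Fin N) k →ₐ[k] B) (hπ : Function.Surjective π) (hπj : π (X j) = 1) (hπJ : J ≤ RingHom.ker π)
    (hlift : ∀ (C : Type u) [CommRing C] [Algebra k C] (φ : MvPolynomial (Fin N) k →ₐ[k] C),
      J ⊔ Ideal.span {(X j : MvPolynomial (Fin N) k) - 1} ≤ RingHom.ker φ → ∃ θ : B →ₐ[k] C, ∀ p, θ (π p) = φ p) :
    Algebra.Smooth k (Localization.Away (Ideal.Quotient.mk J (X j))) := by
  subst hJ
  let J := Ideal.span (Set.range f)
  classical
  let L := Localization.Away (Ideal.Quotient.mk J (X j))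
  let E := XAway B
  let b : Fin N → B := fun i => π (X i)
  have hb : ∀ p : MvPolynomial (Fin N) k, aeval (R := k) b p = π p := fun p => by
    have : (aeval (R := k) b : MvPolynomial (Fin N) k →ₐ[k] B) = π :=
      MvPolynomial.algHom_ext fun i => by simp [b]
    exact DFunLike.congr_fun this p
  have hbj : b j = 1 := hπj
  let T : XAway B := algebraMap (Polynomial B) (XAway B) Polynomial.X
  let g : Fin N → E := fun i => T * algebraMap B E (b i)
  have hJE : J ≤ RingHom.ker (aeval (R := k) g) := Ideal.span_le.2 (by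
    rintro _ ⟨i, rfl⟩
    rw [SetLike.mem_coe, RingHom.mem_ker, eval₂_smul_homogeneous (hf i),
      ← Function.comp_def (algebraMap B E) b, aeval_algebraMap_apply, hb,
      RingHom.mem_ker.1 (hπJ (Ideal.subset_span (Set.mem_range_self i))), map_zero, mul_zero])
  let Φ₀ : (MvPolynomial (Fin N) k ⧸ J) →ₐ[k] E := Ideal.Quotient.liftₐ J (aeval g) hJE
  have hT : IsUnit (Φ₀ (Ideal.Quotient.mk J (X j))) := by
    show IsUnit (aeval g (X j))
    simp only [aeval_X, g, hbj, map_one, mul_one]
    exact IsLocalization.Away.algebraMap_isUnit _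
  let Φ : L →ₐ[k] E := IsLocalization.liftAlgHom (M := Submonoid.powers (Ideal.Quotient.mk J (X j))) (S := L) (f := Φ₀)
    (fun ⟨_, e, he⟩ => by subst he; exact (map_pow Φ₀ _ e) ▸ hT.pow e)
  let x : Fin N → L := fun i => algebraMap _ L (Ideal.Quotient.mk J (X i))
  have hxj : IsUnit (x j) := IsLocalization.Away.algebraMap_isUnit _
  let w : Fin N → L := fun i => ↑hxj.unit⁻¹ * x i
  have hx : ∀ p : MvPolynomial (Fin N) k, aeval (R := k) x p = algebraMap _ L (Ideal.Quotient.mk J p) := fun p => by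
    have : (aeval (R := k) x : MvPolynomial (Fin N) k →ₐ[k] L) =
        (IsScalarTower.toAlgHom k _ L).comp (Ideal.Quotient.mkₐ k J) := MvPolynomial.algHom_ext fun i => by simp [x]
    exact DFunLike.congr_fun this p
  have hker : J ⊔ Ideal.span {(X j : MvPolynomial (Fin N) k) - 1} ≤ RingHom.ker (aeval (R := k) w) := by
    refine sup_le (Ideal.span_le.2 ?_) ((Ideal.span_singleton_le_iff_mem _).2 ?_)
    · rintro _ ⟨i, rfl⟩
      rw [SetLike.mem_coe, RingHom.mem_ker, eval₂_smul_homogeneous (hf i), hx,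
        Ideal.Quotient.eq_zero_iff_mem.2 (Ideal.subset_span (Set.mem_range_self i)), map_zero, mul_zero]
    · rw [RingHom.mem_ker, map_sub, map_one, aeval_X, sub_eq_zero]
      exact hxj.val_inv_mul
  obtain ⟨θ, hθ⟩ := hlift L (aeval w) hker
  let Ψ₀ : Polynomial B →ₐ[k] L :=
    AlgHom.mk' (Polynomial.eval₂RingHom θ.toRingHom (x j)) (fun c p => by
      simp [Algebra.smul_def, Polynomial.algebraMap_apply, IsScalarTower.algebraMap_apply k B (Polynomial B)])
  have hΨX : Ψ₀ Polynomial.X = x j := Polynomial.eval₂_X _ _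
  let Ψ : E →ₐ[k] L := IsLocalization.liftAlgHom (M := Submonoid.powers (Polynomial.X : Polynomial B)) (S := E) (f := Ψ₀)
    (fun ⟨_, e, he⟩ => by subst he; exact (map_pow Ψ₀ Polynomial.X e).symm ▸ hΨX.symm ▸ hxj.pow e)
  have hΦx : ∀ i, Φ (x i) = g i := fun i => by
    simp [Φ, x, Φ₀]
  have hΨT : Ψ T = x j := (IsLocalization.lift_eq _ _).trans hΨX
  have hΨb : ∀ i, Ψ (algebraMap B E (b i)) = w i := fun i => by
    rw [IsScalarTower.algebraMap_apply B (Polynomial B) E]
    simp [Ψ, Ψ₀, b, hθ]
  have h1 : Ψ.comp Φ = AlgHom.id k L := by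
    refine AlgHom.coe_ringHom_injective (IsLocalization.ringHom_ext (Submonoid.powers (Ideal.Quotient.mk J (X j)))
      (Ideal.Quotient.ringHom_ext (MvPolynomial.ringHom_ext (fun c => ?_) fun i => ?_)))
    · show Ψ (Φ (algebraMap k L c)) = algebraMap k L c
      rw [AlgHom.commutes, AlgHom.commutes]
    · show Ψ (Φ (x i)) = x i
      rw [hΦx, map_mul, hΨT, hΨb, ← mul_assoc, hxj.mul_val_inv, one_mul]
  have h2 : Φ.comp Ψ = AlgHom.id k E := by
    refine AlgHom.coe_ringHom_injective (IsLocalization.ringHom_ext (Submonoid.powers (Polynomial.X : Polynomial B))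
      (Polynomial.ringHom_ext (fun c => ?_) ?_))
    · obtain ⟨p, rfl⟩ := hπ c
      rw [← hb p]
      induction p using MvPolynomial.induction_on with
      | C r =>
        show Φ (Ψ (algebraMap (Polynomial B) E (Polynomial.C (aeval b (C r))))) = algebraMap (Polynomial B) E (Polynomial.C (aeval b (C r)))
        rw [aeval_C, ← Polynomial.algebraMap_apply, ← IsScalarTower.algebraMap_apply, AlgHom.commutes, AlgHom.commutes]
      | add p q hp hq => simp only [map_add, hp, hq]
      | mul_X p i hp =>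
        simp only [map_mul, hp, aeval_X]
        congr 1
        show Φ (Ψ (algebraMap (Polynomial B) E (Polynomial.C (b i)))) = algebraMap (Polynomial B) E (Polynomial.C (b i))
        rw [← Polynomial.algebraMap_eq, ← IsScalarTower.algebraMap_apply, hΨb, map_mul, hΦx]
        have h3 : Φ ↑hxj.unit⁻¹ * g j = 1 := by rw [← hΦx, ← map_mul, hxj.val_inv_mul, map_one]
        calc Φ ↑hxj.unit⁻¹ * g i = Φ ↑hxj.unit⁻¹ * g j * algebraMap B E (b i) := by
              simp only [g, hbj, map_one, mul_one]; ring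
          _ = _ := by rw [h3, one_mul]
    · show Φ (Ψ T) = T
      rw [hΨT, hΦx]
      simp [g, hbj]
  haveI : Algebra.Smooth B (Polynomial B) := ⟨inferInstance, inferInstance⟩
  haveI : Algebra.Smooth (Polynomial B) E := Algebra.Smooth.of_isLocalization_Away (Polynomial.X : Polynomial B)
  haveI : Algebra.Smooth k (Polynomial B) := Algebra.Smooth.comp k B (Polynomial B)
  haveI : Algebra.Smooth k E := Algebra.Smooth.comp k (Polynomial B) E
  exact Algebra.Smooth.of_equiv (AlgEquiv.ofAlgHom Ψ Φ h1 h2)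

/-- A homogeneous cone is smooth off a coordinate hyperplane if the piece is. -/
theorem smooth_away_of_piece {r : ℕ} (f : Fin r → MvPolynomial (Fin N) k) (d : Fin r → ℕ)
    (hf : ∀ i, (f i).IsHomogeneous (d i)) (j : Fin N)
    [Algebra.Smooth k (Piece (Ideal.span (Set.range f)) j)] :
    Algebra.Smooth k (Localization.Away (Ideal.Quotient.mk (Ideal.span (Set.range f)) (X j))) :=
  smooth_away_aux f d hf j _ rfl (Piece (Ideal.span (Set.range f)) j) (Ideal.Quotient.mkₐ k _)
    Ideal.Quotient.mk_surjective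
    ((Ideal.Quotient.eq.2 (Ideal.mem_sup_right (Ideal.mem_span_singleton_self _))).trans (map_one _))
    (le_sup_left.trans (le_of_eq Ideal.mk_ker.symm))
    fun C _ _ φ hφ => ⟨Ideal.Quotient.liftₐ _ φ hφ, fun p => rfl⟩

/-- Smooth pieces give regular local rings off the vertex. -/
theorem regular_off_vertex {r : ℕ} (f : Fin r → MvPolynomial (Fin N) k) (d : Fin r → ℕ)
    (hf : ∀ i, (f i).IsHomogeneous (d i)) (hpiece : ∀ j, Algebra.Smooth k (Piece (Ideal.span (Set.range f)) j))
    (Q : Ideal (MvPolynomial (Fin N) k ⧸ Ideal.span (Set.range f))) [Q.IsPrime]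
    (hQ : ∃ j, Ideal.Quotient.mk (Ideal.span (Set.range f)) (X j) ∉ Q) :
    IsRegularLocalRing (Localization.AtPrime Q) := by
  obtain ⟨j, hj⟩ := hQ
  haveI := hpiece j
  let L := Localization.Away (Ideal.Quotient.mk (Ideal.span (Set.range f)) (X j : MvPolynomial (Fin N) k))
  haveI : Algebra.Smooth k L := smooth_away_of_piece f d hf j
  haveI : IsRegularRing L := ArtinFlat.HB.isRegularRing_of_smooth k L
  have hdisj : Disjoint ((Submonoid.powers (Ideal.Quotient.mk (Ideal.span (Set.range f)) (X j : MvPolynomial (Fin N) k))) :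
      Set (MvPolynomial (Fin N) k ⧸ Ideal.span (Set.range f))) (Q : Set (MvPolynomial (Fin N) k ⧸ Ideal.span (Set.range f))) :=
    (Ideal.disjoint_powers_iff_notMem_of_isPrime _).2 hj
  haveI hp : (Q.map (algebraMap _ L)).IsPrime := IsLocalization.isPrime_of_isPrime_disjoint _ L Q inferInstance hdisj
  have hcomap : (Q.map (algebraMap _ L)).comap (algebraMap _ L) = Q :=
    IsLocalization.comap_map_of_isPrime_disjoint _ L inferInstance hdisj
  haveI : IsRegularLocalRing (Localization.AtPrime (Q.map (algebraMap _ L))) :=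
    IsRegularRing.isRegularLocalRing_localization _
  haveI : IsLocalization.AtPrime (Localization.AtPrime (Q.map (algebraMap _ L))) ((Q.map (algebraMap _ L)).comap (algebraMap _ L)) :=
    IsLocalization.isLocalization_isLocalization_atPrime_isLocalization
      (Submonoid.powers (Ideal.Quotient.mk (Ideal.span (Set.range f)) (X j))) _ _
  simp only [hcomap] at this
  exact IsRegularLocalRing.of_ringEquiv
    (IsLocalization.algEquiv Q.primeCompl (Localization.AtPrime (Q.map (algebraMap _ L))) (Localization.AtPrime Q)).toRingEquiv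

theorem smooth_piece_bot (j : Fin N) : Algebra.Smooth k (Piece (⊥ : Ideal (MvPolynomial (Fin N) k)) j) := by
  classical
  let B := Piece (⊥ : Ideal (MvPolynomial (Fin N) k)) j
  let v : Fin N → MvPolynomial {i : Fin N // i ≠ j} k := fun i => if h : i = j then 1 else X ⟨i, h⟩
  have hker : (⊥ : Ideal (MvPolynomial (Fin N) k)) ⊔ Ideal.span {(X j : MvPolynomial (Fin N) k) - 1} ≤
      RingHom.ker (aeval (R := k) v) :=
    sup_le bot_le ((Ideal.span_singleton_le_iff_mem _).2 (by simp [RingHom.mem_ker, v]))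
  let φ : B →ₐ[k] MvPolynomial {i : Fin N // i ≠ j} k := Ideal.Quotient.liftₐ _ (aeval v) hker
  let ψ : MvPolynomial {i : Fin N // i ≠ j} k →ₐ[k] B := aeval fun i => Ideal.Quotient.mk _ (X i.1)
  have h1 : φ.comp ψ = AlgHom.id k _ := MvPolynomial.algHom_ext fun i => by
    show φ (aeval (fun i : {i : Fin N // i ≠ j} => (Ideal.Quotient.mk _ (X i.1) : B)) (X i)) = X i
    rw [aeval_X]
    show aeval v (X i.1) = X i
    rw [aeval_X]
    exact dif_neg i.2
  have h2 : ψ.comp φ = AlgHom.id k B := Ideal.Quotient.algHom_ext k (MvPolynomial.algHom_ext fun i => by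
    by_cases h : i = j
    · subst h
      simp only [φ, ψ, v, AlgHom.comp_apply, Ideal.Quotient.mkₐ_eq_mk, Ideal.Quotient.liftₐ_apply, Ideal.Quotient.lift_mk,
        RingHom.coe_coe, AlgHom.id_apply, aeval_X, dif_pos, map_one]
      exact ((Ideal.Quotient.eq.2 (Ideal.mem_sup_right (Ideal.mem_span_singleton_self _))).trans (map_one _)).symm
    · simp [φ, ψ, v, h]; rfl)
  haveI : Algebra.Smooth k (MvPolynomial {i : Fin N // i ≠ j} k) := ⟨inferInstance, inferInstance⟩
  exact Algebra.Smooth.of_equiv (AlgEquiv.ofAlgHom ψ φ h2 h1)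

theorem piece_congr {I J : Ideal (MvPolynomial (Fin N) k)} (h : I = J) (j : Fin N) [Algebra.Smooth k (Piece I j)] :
    Algebra.Smooth k (Piece J j) := by
  subst h; infer_instance

/-- Generic forms cut a smooth piece in a smooth piece. -/
theorem exists_poly_piece_smooth [IsAlgClosed k] {n e : ℕ} (he : 0 < e) (J : Ideal (MvPolynomial (Fin (n + 1)) k))
    (j : Fin (n + 1)) [Algebra.Smooth k (Piece J j)] :
    ∃ p : MvPolynomial (Fin (Fintype.card (ForSys.Mon n e))) k, p ≠ 0 ∧ ∀ a, eval a p ≠ 0 →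
      Algebra.Smooth k (Piece (J ⊔ Ideal.span
        {((ForSys.formEquiv k n e).symm (a ∘ Fintype.equivFin (ForSys.Mon n e)) : MvPolynomial (Fin (n + 1)) k)}) j) := by
  classical
  let B := Piece J j
  let eT := (Fintype.equivFin (ForSys.Mon n e)).symm
  let b : Fin (n + 1) → B := fun i => Ideal.Quotient.mk _ (X i)
  have hbj : b j = 1 :=
    (Ideal.Quotient.eq.2 (Ideal.mem_sup_right (Ideal.mem_span_singleton_self _))).trans (map_one _)
  have hsurj : Function.Surjective (aeval (R := k) b) := fun y => by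
    obtain ⟨p, rfl⟩ := Ideal.Quotient.mk_surjective y
    refine ⟨p, ?_⟩
    have : (aeval (R := k) b : MvPolynomial (Fin (n + 1)) k →ₐ[k] B) = Ideal.Quotient.mkₐ k _ :=
      MvPolynomial.algHom_ext fun i => by simp [b]; rfl
    exact DFunLike.congr_fun this p
  let μ : (Fin (Fintype.card (ForSys.Mon n e)) → k) → MvPolynomial (Fin (n + 1)) k := fun a =>
    ((ForSys.formEquiv k n e).symm (a ∘ Fintype.equivFin (ForSys.Mon n e)) : MvPolynomial (Fin (n + 1)) k)
  let g : Fin (Fintype.card (ForSys.Mon n e)) → B := fun i => Ideal.Quotient.mk _ (monomial (eT i).1 (1 : k))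
  have hμ : ∀ a, Ideal.Quotient.mk _ (μ a) = ∑ i, algebraMap k B (a i) * g i := fun a => by
    have h1 : μ a = ∑ s : ForSys.Mon n e, monomial s.1 (a (Fintype.equivFin (ForSys.Mon n e) s)) := rfl
    rw [h1, map_sum]
    refine Fintype.sum_equiv (Fintype.equivFin (ForSys.Mon n e)) _ _ fun s => ?_
    simp only [g, eT, Equiv.symm_apply_apply]
    rw [← Ideal.Quotient.mkₐ_eq_mk k, ← AlgHom.commutes (Ideal.Quotient.mkₐ k _), ← map_mul, MvPolynomial.algebraMap_eq,
      C_mul_monomial, mul_one]
  have hjet : ∀ P : Ideal B, P.IsMaximal → ∀ y : B, ∃ c : Fin (Fintype.card (ForSys.Mon n e)) → k,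
      y - ∑ i, algebraMap k B (c i) * g i ∈ P ^ 2 := fun P hP y => by
    obtain ⟨c, hc⟩ := BertiniHyp.jets_of_generators b j hbj hsurj P hP y
    let G : LefPen.Form n k e := ⟨X j ^ (e - 1) * ∑ i, C (c i) * X i, by
      have h := (isHomogeneous_X_pow (R := k) j (e - 1)).mul
        (IsHomogeneous.sum Finset.univ (fun i => C (c i) * X i) 1 fun i _ => by
          simpa using (isHomogeneous_C _ (c i)).mul (isHomogeneous_X k i))
      rwa [Nat.sub_add_cancel he] at h⟩
    refine ⟨fun i => ForSys.formEquiv k n e G (eT i), ?_⟩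
    have h2 : μ (fun i => ForSys.formEquiv k n e G (eT i)) = G.1 := by
      show (((ForSys.formEquiv k n e).symm _ : LefPen.Form n k e) : MvPolynomial (Fin (n + 1)) k) = _
      rw [show ((fun i => ForSys.formEquiv k n e G (eT i)) ∘ Fintype.equivFin (ForSys.Mon n e)) = ForSys.formEquiv k n e G by
        funext s; simp [eT], LinearEquiv.symm_apply_apply]
    rw [← hμ, h2]
    have h3 : Ideal.Quotient.mk _ G.1 = ∑ i, algebraMap k B (c i) * b i := by
      show Ideal.Quotient.mk _ (X j ^ (e - 1) * ∑ i, C (c i) * X i) = _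
      rw [map_mul, map_pow, map_sum, show Ideal.Quotient.mk _ (X j : MvPolynomial (Fin (n + 1)) k) = (1 : B) from hbj, one_pow, one_mul]
      exact Finset.sum_congr rfl fun i _ => map_mul _ _ _
    rw [h3]
    exact hc
  obtain ⟨p, hp, hp'⟩ := BertiniZero.bertini_jets (k := k) (0 : B) g hjet
  refine ⟨p, hp, fun a ha => ?_⟩
  haveI := hp' a ha
  have hmap : (Ideal.span {μ a}).map (Ideal.Quotient.mk (J ⊔ Ideal.span {(X j : MvPolynomial (Fin (n + 1)) k) - 1})) =
      Ideal.span {(0 : B) + ∑ i, algebraMap k B (a i) * g i} := by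
    rw [Ideal.map_span, Set.image_singleton, hμ, zero_add]
  let E : (B ⧸ Ideal.span {(0 : B) + ∑ i, algebraMap k B (a i) * g i}) ≃ₐ[k] Piece (J ⊔ Ideal.span {μ a}) j :=
    (((Ideal.quotientEquivAlgOfEq k hmap.symm).trans
    (DoubleQuot.quotQuotEquivQuotSupₐ k (J ⊔ Ideal.span {(X j : MvPolynomial (Fin (n + 1)) k) - 1}) (Ideal.span {μ a}))).trans
    (Ideal.quotientEquivAlgOfEq k (sup_right_comm J (Ideal.span {(X j : MvPolynomial (Fin (n + 1)) k) - 1}) (Ideal.span {μ a}))))
  exact Algebra.Smooth.of_equiv (A := B ⧸ Ideal.span {(0 : B) + ∑ i, algebraMap k B (a i) * g i}) E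

theorem exists_next [IsAlgClosed k] {n s e : ℕ} (he : 0 < e) (f : Fin s → MvPolynomial (Fin (n + 1)) k) (d : Fin s → ℕ)
    (hd : ∀ i, 0 < d i) (hf : ∀ i, (f i).IsHomogeneous (d i))
    (hdom : IsDomain (MvPolynomial (Fin (n + 1)) k ⧸ Ideal.span (Set.range f))) (hsn : s < n)
    (hJ : (Ideal.span (Set.range f)).height = s)
    (hpiece : ∀ j, Algebra.Smooth k (Piece (Ideal.span (Set.range f)) j)) :
    ∃ g : MvPolynomial (Fin (n + 1)) k, g.IsHomogeneous e ∧
      (∀ j, Algebra.Smooth k (Piece (Ideal.span {g}) j)) ∧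
      (∀ j, Algebra.Smooth k (Piece (Ideal.span (Set.range f) ⊔ Ideal.span {g}) j)) ∧
      g ∉ Ideal.span (Set.range f) := by
  classical
  let J := Ideal.span (Set.range f)
  haveI := fun j => hpiece j
  haveI := fun j => smooth_piece_bot (k := k) (N := n + 1) j
  choose p hp hp' using fun j => exists_poly_piece_smooth he J j
  choose q hq hq' using fun j => exists_poly_piece_smooth he (⊥ : Ideal (MvPolynomial (Fin (n + 1)) k)) j
  let μ : (Fin (Fintype.card (ForSys.Mon n e)) → k) →ₗ[k] (MvPolynomial (Fin (n + 1)) k ⧸ J) :=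
    ((Ideal.Quotient.mkₐ k J).toLinearMap.comp (CohB1.polyGrading n k e).subtype).comp
      ((ForSys.formEquiv k n e).symm.toLinearMap.comp
        (LinearMap.funLeft k k (Fintype.equivFin (ForSys.Mon n e))))
  -- some form is not in `J`
  have hne : ∃ j : Fin (n + 1), (X j : MvPolynomial (Fin (n + 1)) k) ∉ J := by
    by_contra! hcon
    have h1 : RingHom.ker (constantCoeff (R := k) (σ := Fin (n + 1))) ≤ J :=
      GradedVertex.vertex_le_span_X.trans (Ideal.span_le.2 (by rintro _ ⟨i, rfl⟩; exact hcon i))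
    have h2 := (DepthLib.CMPoly.le_height_ker_constantCoeff k (n + 1)).trans (Ideal.height_mono h1)
    rw [hJ] at h2
    have h3 : n + 1 ≤ s := by exact_mod_cast h2
    omega
  obtain ⟨j, hj⟩ := hne
  haveI : (Ideal.span (Set.range f)).IsPrime := (Ideal.Quotient.isDomain_iff_prime _).1 hdom
  have hμ : μ ≠ 0 := fun h0 => by
    have h1 := LinearMap.congr_fun h0
      ((ForSys.formEquiv k n e ⟨X j ^ e, isHomogeneous_X_pow j e⟩) ∘ (Fintype.equivFin (ForSys.Mon n e)).symm)
    let G : LefPen.Form n k e := ⟨X j ^ e, isHomogeneous_X_pow (R := k) j e⟩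
    change μ ((ForSys.formEquiv k n e G) ∘ (Fintype.equivFin (ForSys.Mon n e)).symm) = 0 at h1
    have h3 : (LinearMap.funLeft k k (Fintype.equivFin (ForSys.Mon n e))) ((ForSys.formEquiv k n e G) ∘ (Fintype.equivFin (ForSys.Mon n e)).symm) =
        ForSys.formEquiv k n e G := by
      funext i; simp [LinearMap.funLeft_apply]
    have h4 : Ideal.Quotient.mk J G.1 = 0 := by
      rw [← h1]
      show _ = Ideal.Quotient.mk J (((ForSys.formEquiv k n e).symm (LinearMap.funLeft k k _ _) : LefPen.Form n k e) : MvPolynomial (Fin (n + 1)) k)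
      rw [h3, LinearEquiv.symm_apply_apply]
    exact hj (Ideal.IsPrime.mem_of_pow_mem ‹_› e (Ideal.Quotient.eq_zero_iff_mem.1 h4))
  obtain ⟨a₁, ha₁⟩ : ∃ a, μ a ≠ 0 := by
    by_contra! hcon
    exact hμ (LinearMap.ext hcon)
  obtain ⟨φ, hφ⟩ := Module.Projective.exists_dual_ne_zero k ha₁
  let l : MvPolynomial (Fin (Fintype.card (ForSys.Mon n e))) k := ∑ i, C (φ (μ (Pi.single i 1))) * X i
  have hl : ∀ a, eval a l = φ (μ a) := fun a => by
    conv_rhs => rw [← Finset.univ_sum_single a, map_sum, map_sum]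
    simp only [l, map_sum, map_mul, eval_C, eval_X]
    refine Finset.sum_congr rfl fun i _ => ?_
    rw [show (Pi.single i (a i) : Fin (Fintype.card (ForSys.Mon n e)) → k) = a i • Pi.single i 1 by simp [← Pi.single_smul'],
      map_smul, map_smul, smul_eq_mul, mul_comm]
  obtain ⟨a, ha⟩ : ∃ a, eval a ((∏ j, p j) * (∏ j, q j) * l) ≠ 0 := by
    by_contra! hcon
    refine mul_ne_zero (mul_ne_zero (Finset.prod_ne_zero_iff.2 fun j _ => hp j) (Finset.prod_ne_zero_iff.2 fun j _ => hq j))
      (fun h => hφ ?_) (MvPolynomial.funext fun a => by rw [hcon a, map_zero])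
    rw [← hl, h, map_zero]
  rw [map_mul, map_mul, map_prod, map_prod, mul_ne_zero_iff, mul_ne_zero_iff, Finset.prod_ne_zero_iff,
    Finset.prod_ne_zero_iff] at ha
  let g : LefPen.Form n k e := (ForSys.formEquiv k n e).symm (a ∘ Fintype.equivFin (ForSys.Mon n e))
  refine ⟨g.1, g.2, fun i => ?_, fun i => hp' i a (ha.1.1 i (Finset.mem_univ i)), fun hg => ha.2 ?_⟩
  · haveI := hq' i a (ha.1.2 i (Finset.mem_univ i))
    exact piece_congr (bot_sup_eq _) i
  · rw [hl, show μ a = 0 from Ideal.Quotient.eq_zero_iff_mem.2 hg, map_zero]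

theorem exists_sequence [IsAlgClosed k] (n : ℕ) : ∀ (r : ℕ) (_ : r < n) (d : Fin r → ℕ) (_ : ∀ i, 0 < d i),
    ∃ f : Fin r → MvPolynomial (Fin (n + 1)) k, (∀ i, (f i).IsHomogeneous (d i)) ∧
      (∀ i j, Algebra.Smooth k (Piece (Ideal.span {f i}) j)) ∧
      IsDomain (MvPolynomial (Fin (n + 1)) k ⧸ Ideal.span (Set.range f)) ∧
      (Ideal.span (Set.range f)).height = r ∧
      ∀ j, Algebra.Smooth k (Piece (Ideal.span (Set.range f)) j) := by
  intro r
  induction r with
  | zero =>
    intro _ d _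
    have h0 : Ideal.span (Set.range (Fin.elim0 : Fin 0 → MvPolynomial (Fin (n + 1)) k)) = ⊥ := by simp
    refine ⟨Fin.elim0, fun i => i.elim0, fun i => i.elim0, ?_, ?_, fun j => ?_⟩
    · rw [Ideal.Quotient.isDomain_iff_prime, h0]; exact Ideal.isPrime_bot
    · rw [h0, Ideal.height_bot, Nat.cast_zero]
    · haveI := smooth_piece_bot (k := k) (N := n + 1) j
      exact piece_congr h0.symm j
  | succ s ih =>
    intro hsn d hd
    obtain ⟨f, hf, hone, hdom, hJ, hpiece⟩ := ih (by omega) (fun i => d i.castSucc) fun i => hd _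
    obtain ⟨g, hg, hg1, hg2, hgJ⟩ := exists_next (hd (Fin.last s)) f _ (fun i => hd i.castSucc) hf hdom (by omega) hJ hpiece
    let f' : Fin (s + 1) → MvPolynomial (Fin (n + 1)) k := Fin.snoc f g
    have hspan : Ideal.span (Set.range f') = Ideal.span (Set.range f) ⊔ Ideal.span {g} := by
      rw [Fin.range_snoc, Ideal.span_insert, sup_comm]
    have hf' : ∀ i, (f' i).IsHomogeneous (d i) := fun i => by
      induction i using Fin.lastCases with
      | last => simp only [f', Fin.snoc_last]; exact hg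
      | cast i => simp only [f', Fin.snoc_castSucc]; exact hf i
    have hpiece' : ∀ j, Algebra.Smooth k (Piece (Ideal.span (Set.range f')) j) := fun j => by
      haveI := hg2 j
      exact piece_congr hspan.symm j
    haveI hP : (Ideal.span (Set.range f)).IsPrime := (Ideal.Quotient.isDomain_iff_prime _).1 hdom
    have hne : Ideal.span (Set.range f') ≠ ⊤ := by
      refine ne_top_of_le_ne_top (GradedVertex.isMaximal_vertex (K := k) (N := n + 1)).ne_top (Ideal.span_le.2 ?_)
      rintro _ ⟨i, rfl⟩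
      rw [SetLike.mem_coe, RingHom.mem_ker, constantCoeff_eq]
      exact (hf' i).coeff_eq_zero (by rw [map_zero]; exact (hd i).ne)
    have hJ' : (Ideal.span (Set.range f')).height = ((s + 1 : ℕ) : ℕ∞) := by
      refine le_antisymm ?_ ?_
      · refine (Ideal.height_le_spanRank_toENat _ hne).trans ?_
        refine (Cardinal.toENat.monotone' (Submodule.spanRank_span_le_card _)).trans ?_
        refine (Cardinal.toENat.monotone' (Cardinal.mk_range_le_lift (f := f'))).trans' ?_ |>.trans ?_
        · rw [Cardinal.lift_id']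
        · simp
      · rw [Ideal.height_eq_inf_minimalPrimes]
        refine le_iInf₂ fun P hP' => ?_
        haveI := hP'.1.1
        have hlt : Ideal.span (Set.range f) < P := lt_of_le_of_ne ((le_sup_left.trans hspan.ge).trans hP'.1.2) fun e =>
          hgJ (e ▸ (le_sup_right.trans hspan.ge).trans hP'.1.2 (Ideal.mem_span_singleton_self g))
        have := Ideal.height_add_one_le_of_lt_of_isPrime hlt
        rw [hJ] at this
        exact_mod_cast this
    refine ⟨f', hf', fun i j => ?_, ?_, hJ', hpiece'⟩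
    · induction i using Fin.lastCases with
      | last =>
        haveI := hg1 j
        exact piece_congr (I := Ideal.span {g}) (by simp [f']) j
      | cast i =>
        haveI := hone i j
        exact piece_congr (I := Ideal.span {f i}) (by simp [f']) j
    · refine (isDomain_and_isIntegrallyClosed n (s + 1) hsn f' d hf' hd hJ' fun Q _ hQ => ?_).1
      haveI := regular_off_vertex f' d hf' hpiece' Q hQ
      exact ⟨DepthLib.isDomain_of_isRegularLocalRing (Localization.AtPrime Q), DepthLib.isIntegrallyClosed_of_isRegularLocalRing (Localization.AtPrime Q)⟩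

theorem regular_hypersurface {n : ℕ} (g : MvPolynomial (Fin (n + 1)) k) (e : ℕ) (hg : g.IsHomogeneous e)
    (h : ∀ j, Algebra.Smooth k (Piece (Ideal.span {g}) j))
    (Q : Ideal (MvPolynomial (Fin (n + 1)) k ⧸ Ideal.span {g})) [Q.IsPrime]
    (hQ : ∃ j, Ideal.Quotient.mk (Ideal.span {g}) (X j) ∉ Q) : IsRegularLocalRing (Localization.AtPrime Q) := by
  have key : ∀ I : Ideal (MvPolynomial (Fin (n + 1)) k), I = Ideal.span (Set.range fun _ : Fin 1 => g) →
      (∀ j, Algebra.Smooth k (Piece I j)) → ∀ (Q : Ideal (MvPolynomial (Fin (n + 1)) k ⧸ I)) [Q.IsPrime],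
      (∃ j, Ideal.Quotient.mk I (X j) ∉ Q) → IsRegularLocalRing (Localization.AtPrime Q) := by
    rintro I rfl hI Q _ hQ
    exact regular_off_vertex (fun _ : Fin 1 => g) (fun _ => e) (fun _ => hg) hI Q hQ
  exact key _ (by rw [Set.range_const]) h Q hQ

end Groth.Agent.NonsingCI
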